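import Mathlib.Topology.Sober
import Mathlib.Topology.KrullDimension
import Mathlib.Topology.Homeomorph.Lemmas

/-! Generic points of components of closed subsets, and their dimensions. -/

set_option autoImplicit false

open Topology TopologicalSpace

namespace Groth.Agent.InterDimLib

variable {X Y : Type*} [TopologicalSpace X] [TopologicalSpace Y]

theorem dim_image {f : X → Y} (hf : IsEmbedding f) (S : Set X) :
    topologicalKrullDim ↥(f '' S) = topologicalKrullDim ↥S :=
  (IsHomeomorph.topologicalKrullDim_eq _ (hf.homeomorphImage S).isHomeomorph).symm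

theorem dim_closure_homeo (e : X ≃ₜ Y) (η : X) :
    topologicalKrullDim ↥(closure ({e η} : Set Y)) = topologicalKrullDim ↥(closure ({η} : Set X)) := by
  rw [← Set.image_singleton, ← e.image_closure, dim_image e.isEmbedding]

variable [QuasiSober X] [T0Space X]

theorem exists_generic {C : Set X} (hC : IsClosed C) {Z : Set C} (hZ : Z ∈ irreducibleComponents C) :
    ∃ η ∈ C, (∀ w ∈ C, w ⤳ η → w = η) ∧ (∀ y ∈ Z, η ⤳ (y : X)) ∧
      topologicalKrullDim ↥Z = topologicalKrullDim ↥(closure ({η} : Set X)) := by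
  have hZc : IsClosed Z := isClosed_of_mem_irreducibleComponents Z hZ
  obtain ⟨η, hη⟩ := QuasiSober.sober (hZ.1.image Subtype.val continuous_subtype_val.continuousOn)
    (hC.isClosedMap_subtype_val Z hZc)
  obtain ⟨z, hz, hzη⟩ := hη.mem
  refine ⟨η, hzη ▸ z.2, fun w hw hwη => ?_, fun y hy => hη.specializes ⟨y, hy, rfl⟩, ?_⟩
  · let W : Set C := closure {(⟨w, hw⟩ : C)}
    have hWsub : ∀ y ∈ Z, y ∈ W := fun y hy => by
      rw [← specializes_iff_mem_closure, ← IsInducing.subtypeVal.specializes_iff]
      exact hwη.trans (hη.specializes ⟨y, hy, rfl⟩)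
    have hWZ : W ⊆ Z := hZ.2 isIrreducible_singleton.closure hWsub
    have hwZ : (⟨w, hw⟩ : C) ∈ Z := hWZ (subset_closure rfl)
    exact (hwη.antisymm (hη.specializes ⟨_, hwZ, rfl⟩)).eq
  · rw [show closure ({η} : Set X) = Subtype.val '' Z from hη]
    exact (dim_image IsEmbedding.subtypeVal Z).symm

theorem exists_generic_specializes {C : Set X} (hC : IsClosed C) {y : X} (hy : y ∈ C) :
    ∃ η ∈ C, η ⤳ y ∧ ∃ Z ∈ irreducibleComponents C,
      topologicalKrullDim ↥Z = topologicalKrullDim ↥(closure ({η} : Set X)) := by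
  obtain ⟨η, hη, -, hsp, hd⟩ := exists_generic hC (irreducibleComponent_mem_irreducibleComponents (⟨y, hy⟩ : C))
  exact ⟨η, hη, hsp _ mem_irreducibleComponent, _, irreducibleComponent_mem_irreducibleComponents _, hd⟩

end Groth.Agent.InterDimLib
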