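import Groth.Agent.InterDimLib.Affine
import Groth.Agent.InterDimLib.Topo
import Groth.Agent.HSLib.ProjDeg
import Groth.Agent.CMGraded.GradedDim
import Mathlib.AlgebraicGeometry.ProjectiveSpectrum.Scheme
import Mathlib.AlgebraicGeometry.ProjectiveSpectrum.Basic
import Mathlib.AlgebraicGeometry.Properties

/-! Dimensions of closed subsets of projective space via homogeneous primes. -/

set_option autoImplicit false
set_option linter.style.haveILetI false

universe u

open AlgebraicGeometry TopologicalSpace MvPolynomial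

noncomputable section

namespace Groth.Agent.InterDimLib

variable {n : ℕ} {k : Type u} [Field k]

variable (n k) in
/-- The points of projective space. -/
abbrev Pts : Type u := ProjectiveSpectrum (CohB1.polyGrading n k)

instance : QuasiSober (Pts n k) := inferInstanceAs (QuasiSober (CohB1.ProjSpace n k))

instance : T0Space (Pts n k) := inferInstanceAs (T0Space (CohB1.ProjSpace n k))

/-- The homogeneous prime of a point. -/
abbrev idl (x : Pts n k) : Ideal (MvPolynomial (Fin (n + 1)) k) := x.asHomogeneousIdeal.toIdeal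

theorem idl_le_iff {x y : Pts n k} : idl x ≤ idl y ↔ x ⤳ y := by
  rw [specializes_iff_mem_closure, ← ProjectiveSpectrum.le_iff_mem_closure,
    ← ProjectiveSpectrum.as_ideal_le_as_ideal]
  exact Iff.rfl

theorem idl_le_vars (x : Pts n k) : idl x ≤ idealOfVars (Fin (n + 1)) k :=
  HSLib.le_idealOfVars x.asHomogeneousIdeal.isHomogeneous x.isPrime.ne_top

theorem idl_ne_vars (x : Pts n k) : idl x ≠ idealOfVars (Fin (n + 1)) k := fun h =>
  x.not_irrelevant_le (show (HomogeneousIdeal.irrelevant (CohB1.polyGrading n k)).toIdeal ≤ idl x by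
    rw [HSLib.irrelevant_eq, h])

theorem exists_pt {Q : Ideal (MvPolynomial (Fin (n + 1)) k)} (hQ : Q.IsPrime)
    (hh : Q.IsHomogeneous (CohB1.polyGrading n k)) (hne : Q ≠ idealOfVars (Fin (n + 1)) k) :
    ∃ x : Pts n k, idl x = Q :=
  ⟨⟨⟨Q, hh⟩, hQ, fun h => hne (le_antisymm (HSLib.le_idealOfVars hh hQ.ne_top)
    (HSLib.irrelevant_eq (n := n) (k := k) ▸ h))⟩, rfl⟩

theorem exists_nat_dim (P : Ideal (MvPolynomial (Fin (n + 1)) k)) [P.IsPrime] :
    ∃ d : ℕ, ringKrullDim (MvPolynomial (Fin (n + 1)) k ⧸ P) = d := by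
  obtain ⟨d, hd⟩ := DimFormulaLib.exists_nat_trdeg_quotient k (MvPolynomial (Fin (n + 1)) k) P
  exact ⟨d, DimFormulaLib.ringKrullDim_eq_trdeg k d hd⟩

theorem dim_succ_le {R : Type u} [CommRing R] {P Q : Ideal R} [P.IsPrime] (h : P < Q) :
    ringKrullDim (R ⧸ Q) + 1 ≤ ringKrullDim (R ⧸ P) := by
  obtain ⟨x, hxQ, hxP⟩ := SetLike.exists_of_lt h
  exact ringKrullDim_succ_le_of_surjective (Ideal.Quotient.factor h.le) (Ideal.Quotient.factor_surjective h.le)
    (r := Ideal.Quotient.mk P x)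
    (mem_nonZeroDivisors_of_ne_zero fun h => hxP (Ideal.Quotient.eq_zero_iff_mem.1 h))
    (by rw [Ideal.Quotient.factor_mk]; exact Ideal.Quotient.eq_zero_iff_mem.2 hxQ)

/-- A homogeneous prime minimal over a point's ideal and some forms. -/
theorem exists_minimal_pt {P : Ideal (MvPolynomial (Fin (n + 1)) k)} [P.IsPrime] {σ : Type*} [Finite σ]
    (g : σ → MvPolynomial (Fin (n + 1)) k) {d : ℕ}
    (hd : ringKrullDim (MvPolynomial (Fin (n + 1)) k ⧸ P) = d) {R : Ideal (MvPolynomial (Fin (n + 1)) k)}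
    (hR : R ∈ (P ⊔ Ideal.span (Set.range g)).minimalPrimes) :
    ∃ e : ℕ, ringKrullDim (MvPolynomial (Fin (n + 1)) k ⧸ R) = e ∧ d ≤ e + Nat.card σ := by
  haveI := hR.1.1
  obtain ⟨e, he⟩ := exists_nat_dim R
  refine ⟨e, he, ?_⟩
  have hg : Set.range g ⊆ R := fun x hx => (le_sup_right.trans hR.1.2) (Ideal.subset_span hx)
  have key := le_dim_quotient_add k (M := ⟨P, inferInstance⟩) (p := ⟨R, inferInstance⟩)
    (le_sup_left.trans hR.1.2) g (fun q hPq hqR hgq => PrimeSpectrum.ext
      (le_antisymm hqR (hR.2 ⟨q.isPrime, sup_le hPq (Ideal.span_le.2 hgq)⟩ hqR))) hg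
  rw [show ringKrullDim (MvPolynomial (Fin (n + 1)) k ⧸ (⟨P, inferInstance⟩ : PrimeSpectrum _).asIdeal) = d from hd,
    show ringKrullDim (MvPolynomial (Fin (n + 1)) k ⧸ (⟨R, inferInstance⟩ : PrimeSpectrum _).asIdeal) = e from he] at key
  exact_mod_cast key

theorem dim_vars : ringKrullDim (MvPolynomial (Fin (n + 1)) k ⧸ idealOfVars (Fin (n + 1)) k) = 0 := by
  haveI := HSLib.idealOfVars_isMaximal (k := k) (n := n)
  letI := Ideal.Quotient.field (idealOfVars (Fin (n + 1)) k)
  exact ringKrullDim_eq_zero_of_field _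

/-- The dimension of the affine cone is positive. -/
theorem exists_dim_idl (x : Pts n k) :
    ∃ d : ℕ, ringKrullDim (MvPolynomial (Fin (n + 1)) k ⧸ idl x) = (d + 1 : ℕ) := by
  haveI : (idl x).IsPrime := x.isPrime
  obtain ⟨d, hd⟩ := exists_nat_dim (idl x)
  have h := dim_succ_le ((idl_le_vars x).lt_of_ne (idl_ne_vars x))
  rw [dim_vars, hd, zero_add] at h
  have h' : 1 ≤ d := by exact_mod_cast h
  exact ⟨d - 1, by rw [hd, Nat.sub_add_cancel h']⟩

/-- A hyperplane section through a point in positive dimension. -/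
theorem exists_step (x : Pts n k) {d : ℕ}
    (hd : ringKrullDim (MvPolynomial (Fin (n + 1)) k ⧸ idl x) = (d + 2 : ℕ)) :
    ∃ y : Pts n k, x ⤳ y ∧ x ≠ y ∧ ringKrullDim (MvPolynomial (Fin (n + 1)) k ⧸ idl y) = (d + 1 : ℕ) := by
  haveI : (idl x).IsPrime := x.isPrime
  obtain ⟨i, hi⟩ : ∃ i, (X i : MvPolynomial (Fin (n + 1)) k) ∉ idl x := by
    by_contra! h
    exact idl_ne_vars x (le_antisymm (idl_le_vars x) (Ideal.span_le.2 (by rintro _ ⟨i, rfl⟩; exact h i)))
  let g : Fin 1 → MvPolynomial (Fin (n + 1)) k := fun _ => X i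
  have hJ : idl x ⊔ Ideal.span (Set.range g) ≤ idealOfVars (Fin (n + 1)) k :=
    sup_le (idl_le_vars x) (Ideal.span_le.2 (by rintro _ ⟨_, rfl⟩; exact Ideal.subset_span ⟨i, rfl⟩))
  obtain ⟨R, hR, hRm⟩ := Ideal.exists_minimalPrimes_le hJ
  haveI := hR.1.1
  obtain ⟨e, he, hde⟩ := exists_minimal_pt g hd hR
  have hlt : idl x < R := lt_of_le_of_ne (le_sup_left.trans hR.1.2) fun h =>
    hi (h.ge ((le_sup_right.trans hR.1.2) (Ideal.subset_span ⟨0, rfl⟩)))
  have h2 := dim_succ_le hlt
  rw [he, hd] at h2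
  have h3 : e + 1 ≤ d + 2 := by exact_mod_cast h2
  rw [Nat.card_fin] at hde
  have hne : R ≠ idealOfVars (Fin (n + 1)) k := fun h => by
    rw [h, dim_vars] at he
    have : 0 = e := by exact_mod_cast he
    omega
  obtain ⟨y, hy⟩ := exists_pt hR.1.1 (CMGraded.isHomogeneous_of_mem_minimalPrimes (CohB1.polyGrading n k)
    (x.asHomogeneousIdeal.isHomogeneous.sup (Ideal.homogeneous_span _ _ (by
      rintro _ ⟨_, rfl⟩
      exact ⟨1, isHomogeneous_X k i⟩))) hR) hne
  refine ⟨y, idl_le_iff.1 (hy ▸ hlt.le), fun h => hlt.ne (by rw [← hy, h]), ?_⟩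
  rw [hy, he]
  exact congrArg Nat.cast (show e = d + 1 by omega)

theorem le_dim_of_specializes {X : Type*} [TopologicalSpace X] [T0Space X] {a b : X} (h : a ⤳ b) (hne : a ≠ b)
    {d : ℕ} (hd : (d : WithBot ℕ∞) ≤ topologicalKrullDim ↥(closure ({b} : Set X))) :
    ((d + 1 : ℕ) : WithBot ℕ∞) ≤ topologicalKrullDim ↥(closure ({a} : Set X)) := by
  obtain ⟨p, hp⟩ := Order.le_krullDim_iff.1 hd
  have hsub : closure ({b} : Set X) ⊆ closure {a} :=
    closure_minimal (Set.singleton_subset_iff.2 h.mem_closure) isClosed_closure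
  let ι : closure ({b} : Set X) → closure ({a} : Set X) := Set.inclusion hsub
  have hι : Topology.IsClosedEmbedding ι := ⟨Topology.IsEmbedding.inclusion hsub, by
    rw [Set.range_inclusion]
    exact isClosed_closure.preimage continuous_subtype_val⟩
  let φ := IrreducibleCloseds.map ι hι.continuous
  have hφ : StrictMono φ := IrreducibleCloseds.map_strictMono_of_isInducing hι.isInducing
  let T : IrreducibleCloseds ↥(closure ({a} : Set X)) := ⟨Set.univ, by
    haveI : IrreducibleSpace ↥(closure ({a} : Set X)) :=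
      isIrreducible_iff_irreducibleSpace.1 isIrreducible_singleton.closure
    exact IrreducibleSpace.isIrreducible_univ _, isClosed_univ⟩
  have hlast : φ p.last < T := SetLike.coe_ssubset_coe.1 ⟨Set.subset_univ _, fun hh => by
    obtain ⟨z, hz⟩ := (closure_minimal (Set.image_subset_range ι _) hι.isClosed_range)
      (hh (Set.mem_univ (⟨a, subset_closure rfl⟩ : closure ({a} : Set X))))
    have hz' : (z : X) = a := congrArg Subtype.val hz
    have hmem : a ∈ closure ({b} : Set X) := hz' ▸ z.2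
    exact hne ((h.antisymm (specializes_iff_mem_closure.2 hmem)).eq)⟩
  have hlen := Order.LTSeries.length_le_krullDim ((p.map φ hφ).snoc T (by rwa [LTSeries.last_map]))
  refine le_trans (le_of_eq ?_) hlen
  rw [RelSeries.snoc_length, LTSeries.map_length, hp]

/-- Along a chain of irreducible closed subsets the cones grow. -/
theorem succ_le_dim_of_chain {C : Set (Pts n k)} (hC : IsClosed C) (p : LTSeries (IrreducibleCloseds ↥C)) :
    ∀ i : Fin (p.length + 1), ∀ w : Pts n k, IsGenericPoint w (Subtype.val '' (p i : Set C)) →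
      ((i.1 + 1 : ℕ) : WithBot ℕ∞) ≤ ringKrullDim (MvPolynomial (Fin (n + 1)) k ⧸ idl w) := by
  intro i
  induction i using Fin.induction with
  | zero =>
    intro w _
    obtain ⟨e, he⟩ := exists_dim_idl w
    rw [he]
    exact_mod_cast (by simp : (0 : ℕ) + 1 ≤ e + 1)
  | succ j ih =>
    intro w hw
    obtain ⟨v, hv⟩ := QuasiSober.sober
      ((p j.castSucc).isIrreducible.image Subtype.val continuous_subtype_val.continuousOn)
      (hC.isClosedMap_subtype_val _ (p j.castSucc).isClosed)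
    have hlt : p j.castSucc < p j.succ := p.step j
    have hwv : w ⤳ v := hw.specializes (Set.image_mono hlt.le hv.mem)
    have hne : w ≠ v := fun e => hlt.ne (SetLike.coe_injective
      (Subtype.val_injective.image_injective (hv.def.symm.trans ((congrArg (fun z => closure {z}) e).symm.trans hw.def))))
    haveI : (idl w).IsPrime := w.isPrime
    have h1 := dim_succ_le ((idl_le_iff.2 hwv).lt_of_ne fun e => hne
      ((idl_le_iff.1 e.le).antisymm (idl_le_iff.1 e.ge)).eq)
    obtain ⟨e, he⟩ := exists_dim_idl v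
    obtain ⟨e', he'⟩ := exists_dim_idl w
    have h4 := ih v hv
    rw [he] at h1 h4
    rw [he'] at h1 ⊢
    have h5 : e + 1 + 1 ≤ e' + 1 := by exact_mod_cast h1
    have h6 : j.1 + 1 ≤ e + 1 := by exact_mod_cast h4
    exact_mod_cast (show j.succ.1 + 1 ≤ e' + 1 by rw [Fin.val_succ]; omega)

/-- The dimension of a closed irreducible subset is one less than that of its cone. -/
theorem dim_closure (x : Pts n k) {d : ℕ}
    (hd : ringKrullDim (MvPolynomial (Fin (n + 1)) k ⧸ idl x) = (d + 1 : ℕ)) :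
    topologicalKrullDim ↥(closure ({x} : Set (Pts n k))) = d := by
  refine le_antisymm ?_ ?_
  · refine iSup_le fun p => ?_
    obtain ⟨w, hw⟩ := QuasiSober.sober
      ((p.last).isIrreducible.image Subtype.val continuous_subtype_val.continuousOn)
      (isClosed_closure.isClosedMap_subtype_val _ (p.last).isClosed)
    obtain ⟨w', -, hw'⟩ := hw.mem
    have hle : idl x ≤ idl w := idl_le_iff.2 (specializes_iff_mem_closure.2 (hw' ▸ w'.2))
    have h2 := (succ_le_dim_of_chain isClosed_closure p (Fin.last _) w hw).trans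
      (ringKrullDim_le_of_surjective (Ideal.Quotient.factor hle) (Ideal.Quotient.factor_surjective hle))
    rw [hd, Fin.val_last] at h2
    have h3 : p.length + 1 ≤ d + 1 := by exact_mod_cast h2
    exact_mod_cast (Nat.le_of_succ_le_succ h3)
  · induction d generalizing x with
    | zero =>
      haveI : Nonempty ↥(closure ({x} : Set (Pts n k))) := ⟨⟨x, subset_closure rfl⟩⟩
      haveI : Nonempty (IrreducibleCloseds ↥(closure ({x} : Set (Pts n k)))) :=
        ⟨⟨closure {⟨x, subset_closure rfl⟩}, isIrreducible_singleton.closure, isClosed_closure⟩⟩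
      exact Order.krullDim_nonneg
    | succ d ih =>
      obtain ⟨y, hxy, hne, hy⟩ := exists_step x hd
      exact le_dim_of_specializes hxy hne (ih y hy)

/-- A closed set of dimension `r` has a point whose closure has dimension `r`. -/
theorem exists_pt_of_dim {X : Set (Pts n k)} (hX : IsClosed X) {r : ℕ} (hr : topologicalKrullDim ↥X = r) :
    ∃ x ∈ X, ringKrullDim (MvPolynomial (Fin (n + 1)) k ⧸ idl x) = (r + 1 : ℕ) := by
  obtain ⟨p, hp⟩ := Order.le_krullDim_iff.1 hr.ge
  obtain ⟨w, hw⟩ := QuasiSober.sober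
    ((p.last).isIrreducible.image Subtype.val continuous_subtype_val.continuousOn)
    (hX.isClosedMap_subtype_val _ (p.last).isClosed)
  obtain ⟨w', -, hw'⟩ := hw.mem
  have hwX : w ∈ X := hw' ▸ w'.2
  obtain ⟨d, hd⟩ := exists_dim_idl w
  refine ⟨w, hwX, ?_⟩
  have hc := dim_closure w hd
  have hsub : closure ({w} : Set (Pts n k)) ⊆ X := closure_minimal (Set.singleton_subset_iff.2 hwX) hX
  have h1 : (d : WithBot ℕ∞) ≤ r := by
    rw [← hc, ← hr]
    exact (Topology.IsEmbedding.inclusion hsub).isInducing.topologicalKrullDim_le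
  have h2 : (r : WithBot ℕ∞) ≤ d := by
    have h := succ_le_dim_of_chain hX p (Fin.last _) w hw
    rw [hd, Fin.val_last, hp] at h
    have h' : r + 1 ≤ d + 1 := by exact_mod_cast h
    exact_mod_cast (Nat.le_of_succ_le_succ h')
  have h3 : d = r := le_antisymm (by exact_mod_cast h1) (by exact_mod_cast h2)
  rw [hd, h3]

/-- Zeros of forms. -/
theorem isClosed_zeros {σ : Type*} (f : σ → MvPolynomial (Fin (n + 1)) k) :
    IsClosed (ProjectiveSpectrum.zeroLocus (CohB1.polyGrading n k) (Set.range f)) :=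
  ProjectiveSpectrum.isClosed_zeroLocus _ _

/-- A minimal point of `closure x ∩ V(f)` loses at most `r` dimensions. -/
theorem dim_le_of_minimal {σ : Type*} [Finite σ] (f : σ → MvPolynomial (Fin (n + 1)) k)
    (hf : ∀ i, ∃ j, f i ∈ CohB1.polyGrading n k j) {x η : Pts n k} (hxη : x ⤳ η) (hfη : Set.range f ⊆ idl η)
    (hmin : ∀ z : Pts n k, x ⤳ z → z ⤳ η → Set.range f ⊆ idl z → z = η) {d e : ℕ}
    (hd : ringKrullDim (MvPolynomial (Fin (n + 1)) k ⧸ idl x) = d)
    (he : ringKrullDim (MvPolynomial (Fin (n + 1)) k ⧸ idl η) = e) : d ≤ e + Nat.card σ := by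
  haveI : (idl x).IsPrime := x.isPrime
  have hR : idl η ∈ (idl x ⊔ Ideal.span (Set.range f)).minimalPrimes := by
    refine ⟨⟨η.isPrime, sup_le (idl_le_iff.2 hxη) (Ideal.span_le.2 hfη)⟩, fun Q hQ hQle => ?_⟩
    haveI := hQ.1
    obtain ⟨Q0, hQ0, hQ0Q⟩ := Ideal.exists_minimalPrimes_le hQ.2
    have hne : Q0 ≠ idealOfVars (Fin (n + 1)) k := fun h =>
      idl_ne_vars η (le_antisymm (idl_le_vars η) (h ▸ hQ0Q.trans hQle))
    obtain ⟨z, hz⟩ := exists_pt hQ0.1.1 (CMGraded.isHomogeneous_of_mem_minimalPrimes (CohB1.polyGrading n k)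
      (x.asHomogeneousIdeal.isHomogeneous.sup (Ideal.homogeneous_span _ _ (by
        rintro _ ⟨i, rfl⟩; exact hf i))) hQ0) hne
    have h := hmin z (idl_le_iff.1 (hz ▸ le_sup_left.trans hQ0.1.2))
      (idl_le_iff.1 (hz ▸ hQ0Q.trans hQle))
      (hz ▸ fun a ha => (le_sup_right.trans hQ0.1.2) (Ideal.subset_span ha))
    rw [← h, hz]
    exact hQ0Q
  obtain ⟨e', he', hde⟩ := exists_minimal_pt f hd hR
  rw [he] at he'
  have : e = e' := by exact_mod_cast he'
  omega

/-- Few forms have a common zero on a closed subset of large dimension. -/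
theorem exists_zero {σ : Type*} [Finite σ] (f : σ → MvPolynomial (Fin (n + 1)) k)
    (hf : ∀ i, ∃ j, f i ∈ CohB1.polyGrading n k j) (hfm : Set.range f ⊆ idealOfVars (Fin (n + 1)) k)
    {x : Pts n k} {d : ℕ} (hd : ringKrullDim (MvPolynomial (Fin (n + 1)) k ⧸ idl x) = d)
    (hr : Nat.card σ < d) : ∃ z : Pts n k, x ⤳ z ∧ Set.range f ⊆ idl z := by
  haveI : (idl x).IsPrime := x.isPrime
  obtain ⟨R, hR, -⟩ := Ideal.exists_minimalPrimes_le (sup_le (idl_le_vars x) (Ideal.span_le.2 hfm))
  obtain ⟨e, he, hde⟩ := exists_minimal_pt f hd hR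
  have hne : R ≠ idealOfVars (Fin (n + 1)) k := fun h => by
    rw [h, dim_vars] at he
    have : 0 = e := by exact_mod_cast he
    omega
  obtain ⟨z, hz⟩ := exists_pt hR.1.1 (CMGraded.isHomogeneous_of_mem_minimalPrimes (CohB1.polyGrading n k)
    (x.asHomogeneousIdeal.isHomogeneous.sup (Ideal.homogeneous_span _ _ (by
      rintro _ ⟨i, rfl⟩; exact hf i))) hR) hne
  exact ⟨z, idl_le_iff.1 (hz ▸ le_sup_left.trans hR.1.2),
    hz ▸ fun a ha => (le_sup_right.trans hR.1.2) (Ideal.subset_span ha)⟩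

theorem mem_vars_of_isHomogeneous {f : MvPolynomial (Fin (n + 1)) k} {d : ℕ} (hf : f.IsHomogeneous d)
    (hd : 0 < d) : f ∈ idealOfVars (Fin (n + 1)) k := by
  rw [← HSLib.irrelevant_eq, HomogeneousIdeal.mem_iff, HomogeneousIdeal.mem_irrelevant_iff,
    GradedRing.proj_apply]
  exact DirectSum.decompose_of_mem_ne (CohB1.polyGrading n k) hf hd.ne'

end Groth.Agent.InterDimLib
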