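import Groth.Agent.DimFormulaLib.LocalDim
import Groth.Agent.GrSegreLib.Dim
import Groth.Agent.CAlgBasics.TorsionFree
import Mathlib.RingTheory.TensorProduct.MvPolynomial
import Mathlib.RingTheory.Ideal.KrullsHeightTheorem
import Mathlib.RingTheory.NoetherNormalization

/-! Dimension of intersections in affine space. -/

set_option autoImplicit false
set_option linter.style.haveILetI false

universe u

open scoped TensorProduct
open Groth.Agent.GrSegreLib (ringKrullDim_eq_of_integral_injective)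

noncomputable section

namespace Groth.Agent.InterDimLib

variable (k : Type u) [Field k]

/-- In a tensor product of affine domains, all minimal primes have full dimension. -/
theorem ringKrullDim_quotient_minimal {A B : Type u} [CommRing A] [IsDomain A] [CommRing B] [IsDomain B]
    [Algebra k A] [Algebra k B] [Algebra.FiniteType k A] [Algebra.FiniteType k B] {r s : ℕ}
    (hr : ringKrullDim A = r) (hs : ringKrullDim B = s)
    (M : Ideal (B ⊗[k] A)) (hM : M ∈ minimalPrimes (B ⊗[k] A)) :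
    ringKrullDim ((B ⊗[k] A) ⧸ M) = ((r + s : ℕ) : WithBot ℕ∞) := by
  classical
  haveI : M.IsPrime := hM.1.1
  obtain ⟨m, f, hf, hfi⟩ := exists_finite_inj_algHom_of_fg k A
  letI : Algebra (MvPolynomial (Fin m) k) A := f.toRingHom.toAlgebra
  haveI : IsScalarTower k (MvPolynomial (Fin m) k) A := .of_algebraMap_eq fun x => (f.commutes x).symm
  haveI : Module.Finite (MvPolynomial (Fin m) k) A := hfi
  haveI : Module.IsTorsionFree (MvPolynomial (Fin m) k) A :=
    Module.isTorsionFree_iff_algebraMap_injective.2 hf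
  obtain ⟨N, ι, hι⟩ := CAlgBasics.exists_injective_pi_of_isTorsionFree (MvPolynomial (Fin m) k) A
  let G : B ⊗[k] MvPolynomial (Fin m) k →ₐ[k] B ⊗[k] A := Algebra.TensorProduct.map (AlgHom.id k B) f
  let Ψ : Fin N → (B ⊗[k] A →ₗ[k] B ⊗[k] MvPolynomial (Fin m) k) := fun i =>
    ((LinearMap.proj i).comp ι |>.restrictScalars k).lTensor B
  have hΨ : ∀ i c t, Ψ i (G c * t) = c * Ψ i t := by
    intro i c t
    induction c using TensorProduct.induction_on with
    | zero => simp
    | add x y hx hy => rw [map_add, add_mul, map_add, hx, hy, add_mul]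
    | tmul b z =>
      induction t using TensorProduct.induction_on with
      | zero => simp
      | add x y hx hy => rw [mul_add, map_add, hx, hy, map_add, mul_add]
      | tmul b' a =>
        have e : f z * a = z • a := (Algebra.smul_def z a).symm
        simp only [G, Ψ, Algebra.TensorProduct.map_tmul, AlgHom.coe_id, id_eq,
          Algebra.TensorProduct.tmul_mul_tmul, LinearMap.lTensor_tmul,
          LinearMap.coe_restrictScalars, LinearMap.coe_comp, Function.comp_apply, LinearMap.proj_apply, e,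
          map_smul, Pi.smul_apply, smul_eq_mul]
  have hjoint : ∀ t, (∀ i, Ψ i t = 0) → t = 0 := by
    intro t ht
    let Φ : B ⊗[k] A →ₗ[k] (Fin N → B ⊗[k] MvPolynomial (Fin m) k) :=
      (TensorProduct.piRight k k B (fun _ : Fin N => MvPolynomial (Fin m) k)).toLinearMap.comp
        ((ι.restrictScalars k).lTensor B)
    have hΦ : Function.Injective Φ :=
      (TensorProduct.piRight k k B (fun _ : Fin N => MvPolynomial (Fin m) k)).injective.comp
        (Module.Flat.lTensor_preserves_injective_linearMap (M := B) (ι.restrictScalars k) hι)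
    have hi : ∀ i, (LinearMap.proj i).comp Φ = Ψ i := fun i => TensorProduct.ext' fun b a => by
      simp [Φ, Ψ]
    refine hΦ ((funext fun i => ?_ : Φ t = 0).trans (map_zero Φ).symm)
    exact (LinearMap.congr_fun (hi i) t).trans (ht i)
  let e : B ⊗[k] MvPolynomial (Fin m) k ≃+* MvPolynomial (Fin m) B :=
    (MvPolynomial.scalarRTensorAlgEquiv (R := k) (σ := Fin m) (N := B)).toRingEquiv
  haveI : IsDomain (B ⊗[k] MvPolynomial (Fin m) k) := e.toMulEquiv.isDomain (MvPolynomial (Fin m) B)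
  let G' : B ⊗[k] MvPolynomial (Fin m) k →+* (B ⊗[k] A) ⧸ M := (Ideal.Quotient.mk M).comp G.toRingHom
  have hG' : Function.Injective G' := by
    rw [injective_iff_map_eq_zero]
    intro c hc
    by_contra hc0
    have hreg : G c ∈ nonZeroDivisors (B ⊗[k] A) := mem_nonZeroDivisors_iff.2
      ⟨fun t ht => hjoint t fun i => (mul_eq_zero.1 ((hΨ i c t).symm.trans (by rw [ht, map_zero]))).resolve_left hc0,
       fun t ht => hjoint t fun i => (mul_eq_zero.1 ((hΨ i c t).symm.trans
        (by rw [mul_comm, ht, map_zero]))).resolve_left hc0⟩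
    exact Set.disjoint_left.1 (Ideal.disjoint_nonZeroDivisors_of_mem_minimalPrimes hM)
      (Ideal.Quotient.eq_zero_iff_mem.1 hc) hreg
  have hA : ∀ a : A, RingHom.IsIntegralElem G.toRingHom ((1 : B) ⊗ₜ[k] a) := by
    intro a
    obtain ⟨P, hP, hPa⟩ := RingHom.IsIntegral.of_finite hfi a
    refine ⟨P.map (Algebra.TensorProduct.includeRight (R := k)
      (A := B) (B := MvPolynomial (Fin m) k)).toRingHom, hP.map _, ?_⟩
    rw [Polynomial.eval₂_map]
    have hcomp : G.toRingHom.comp (Algebra.TensorProduct.includeRight (R := k)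
        (A := B) (B := MvPolynomial (Fin m) k)).toRingHom =
        (Algebra.TensorProduct.includeRight (R := k) (A := B) (B := A)).toRingHom.comp f.toRingHom := by
      refine RingHom.ext fun x => ?_
      simp [G]
    rw [hcomp]
    have := Polynomial.hom_eval₂ P f.toRingHom
      (Algebra.TensorProduct.includeRight (R := k) (A := B) (B := A)).toRingHom a
    exact this.symm.trans (by rw [hPa]; simp)
  have hB : ∀ b : B, RingHom.IsIntegralElem G.toRingHom (b ⊗ₜ[k] (1 : A)) := fun b => by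
    have := RingHom.isIntegralElem_map (G.toRingHom) (x := b ⊗ₜ[k] (1 : MvPolynomial (Fin m) k))
    simpa [G] using this
  have hGi : G.toRingHom.IsIntegral := by
    intro x
    induction x using TensorProduct.induction_on with
    | zero => exact RingHom.isIntegralElem_zero _
    | tmul b a =>
      have h := RingHom.IsIntegralElem.mul _ (hB b) (hA a)
      rwa [Algebra.TensorProduct.tmul_mul_tmul, mul_one, one_mul] at h
    | add x y hx hy => exact RingHom.IsIntegralElem.add _ hx hy
  have hG'i : G'.IsIntegral := RingHom.IsIntegral.trans _ _ hGi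
    (RingHom.isIntegral_of_surjective _ Ideal.Quotient.mk_surjective)
  haveI : IsNoetherianRing B := Algebra.FiniteType.isNoetherianRing k B
  have hdf := ringKrullDim_eq_of_integral_injective f.toRingHom hf (RingHom.IsIntegral.of_finite hfi)
  rw [hr, MvPolynomial.ringKrullDim_of_isNoetherianRing, ringKrullDim_eq_zero_of_field] at hdf
  obtain rfl : m = r := by
    have : (m : WithBot ℕ∞) = r := by simpa using hdf
    exact_mod_cast this
  rw [← ringKrullDim_eq_of_integral_injective G' hG' hG'i, ringKrullDim_eq_of_ringEquiv e,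
    MvPolynomial.ringKrullDim_of_isNoetherianRing, hs, Nat.card_fin, Nat.add_comm m s]
  norm_cast

/-- A prime of an affine domain minimal over `N` elements loses at most `N` dimensions. -/
theorem le_dim_quotient_add {T : Type u} [CommRing T] [Algebra k T] [Algebra.FiniteType k T]
    {M p : PrimeSpectrum T} (hMp : M ≤ p) {σ : Type*} [Finite σ] (g : σ → T)
    (hmin : ∀ q : PrimeSpectrum T, M ≤ q → q ≤ p → Set.range g ⊆ q.asIdeal → q = p)
    (hg : Set.range g ⊆ p.asIdeal) :
    ringKrullDim (T ⧸ M.asIdeal) ≤ ringKrullDim (T ⧸ p.asIdeal) + (Nat.card σ : WithBot ℕ∞) := by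
  classical
  haveI : IsNoetherianRing T := Algebra.FiniteType.isNoetherianRing k T
  obtain ⟨n, hn⟩ := DimFormulaLib.exists_nat_trdeg_quotient k T M.asIdeal
  obtain ⟨d, hd⟩ := DimFormulaLib.exists_nat_trdeg_quotient k T p.asIdeal
  obtain ⟨a, ha, hna⟩ := DimFormulaLib.trdeg_eq_relHeight_add k T hMp n d hn hd
  rw [DimFormulaLib.ringKrullDim_eq_trdeg k n hn, DimFormulaLib.ringKrullDim_eq_trdeg k d hd]
  let q := p.asIdeal.map (Ideal.Quotient.mk M.asIdeal)
  haveI : q.IsPrime := Ideal.map_isPrime_of_surjective Ideal.Quotient.mk_surjective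
    (by rw [Ideal.mk_ker]; exact hMp)
  have hcomap : q.comap (Ideal.Quotient.mk M.asIdeal) = p.asIdeal := by
    rw [Ideal.comap_map_of_surjective' _ Ideal.Quotient.mk_surjective, Ideal.mk_ker]
    exact sup_eq_left.2 hMp
  have hq : q ∈ (Ideal.span (Set.range (Ideal.Quotient.mk M.asIdeal ∘ g))).minimalPrimes := by
    refine ⟨⟨inferInstance, Ideal.span_le.2 ?_⟩, fun q' hq' hle => ?_⟩
    · rintro _ ⟨i, rfl⟩
      exact Ideal.mem_map_of_mem _ (hg ⟨i, rfl⟩)
    · haveI := hq'.1
      have h1 := hmin ⟨q'.comap (Ideal.Quotient.mk M.asIdeal), inferInstance⟩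
        (fun x hx => by
          show Ideal.Quotient.mk M.asIdeal x ∈ q'
          rw [Ideal.Quotient.eq_zero_iff_mem.2 hx]
          exact q'.zero_mem)
        (fun x hx => hcomap.le (hle hx))
        (by rintro _ ⟨i, rfl⟩; exact hq'.2 (Ideal.subset_span ⟨i, rfl⟩))
      show p.asIdeal.map (Ideal.Quotient.mk M.asIdeal) ≤ q'
      rw [← congrArg PrimeSpectrum.asIdeal h1]
      exact Ideal.map_comap_le
  have h2 : DimFormulaLib.relHeight M p ≤ (Nat.card σ : ℕ∞) := by
    refine (Ideal.height_le_card_of_mem_minimalPrimes_span (Set.finite_range _) hq).trans ?_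
    exact_mod_cast (Set.image_univ (f := Ideal.Quotient.mk M.asIdeal ∘ g)) ▸
      (Set.ncard_image_le Set.finite_univ).trans (Set.ncard_univ σ).le
  rw [ha] at h2
  have h3 : a ≤ Nat.card σ := by exact_mod_cast h2
  have h4 : n ≤ d + Nat.card σ := by omega
  exact_mod_cast h4

/-- The kernel of a surjection onto a domain, minimal over `N` elements. -/
theorem le_dim_of_surjective {T C : Type u} [CommRing T] [Algebra k T] [Algebra.FiniteType k T]
    [CommRing C] [IsDomain C] [Algebra k C] (μ : T →ₐ[k] C) (hμ : Function.Surjective μ) {d : WithBot ℕ∞}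
    (hall : ∀ M ∈ minimalPrimes T, ringKrullDim (T ⧸ M) = d) {σ : Type*} [Finite σ] (g : σ → T)
    (hg : ∀ i, μ (g i) = 0)
    (hmin : ∀ q : Ideal T, q.IsPrime → (∀ i, g i ∈ q) → (∀ t ∈ q, μ t = 0) → ∀ t, μ t = 0 → t ∈ q) :
    d ≤ ringKrullDim C + (Nat.card σ : WithBot ℕ∞) := by
  haveI : (RingHom.ker μ.toRingHom).IsPrime := RingHom.ker_isPrime _
  obtain ⟨M, hM, hMp⟩ := Ideal.exists_minimalPrimes_le (I := (⊥ : Ideal T))
    (J := RingHom.ker μ.toRingHom) bot_le
  have key := le_dim_quotient_add k (M := ⟨M, hM.1.1⟩) (p := ⟨RingHom.ker μ.toRingHom, inferInstance⟩)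
    hMp g (fun q _ hqp hq => PrimeSpectrum.ext (le_antisymm hqp fun t ht =>
      hmin q.asIdeal q.isPrime (fun i => hq ⟨i, rfl⟩) (fun t ht => hqp ht) t ht))
    (by rintro _ ⟨i, rfl⟩; exact hg i)
  rw [ringKrullDim_eq_of_ringEquiv (RingHom.quotientKerEquivOfSurjective (f := μ.toRingHom) hμ),
    hall M hM] at key
  exact key

/-- The intersection inequality for an algebra with `N` generators. -/
theorem le_dim_add_card_of_gens {σ : Type*} [Finite σ] {S₀ : Type u} [CommRing S₀] [Algebra k S₀]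
    [Algebra.FiniteType k S₀] (gen : σ → S₀) (hgen : Algebra.adjoin k (Set.range gen) = ⊤)
    (P Q R : Ideal S₀) [P.IsPrime] [Q.IsPrime]
    (hR : R ∈ (P ⊔ Q).minimalPrimes) :
    ringKrullDim (S₀ ⧸ P) + ringKrullDim (S₀ ⧸ Q) ≤
      ringKrullDim (S₀ ⧸ R) + (Nat.card σ : WithBot ℕ∞) := by
  classical
  haveI : R.IsPrime := hR.1.1
  have hPR : P ≤ R := le_sup_left.trans hR.1.2
  have hQR : Q ≤ R := le_sup_right.trans hR.1.2
  obtain ⟨r, hr'⟩ := DimFormulaLib.exists_nat_trdeg_quotient k S₀ P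
  obtain ⟨s, hs'⟩ := DimFormulaLib.exists_nat_trdeg_quotient k S₀ Q
  have hr := DimFormulaLib.ringKrullDim_eq_trdeg k r hr'
  have hs := DimFormulaLib.ringKrullDim_eq_trdeg k s hs'
  let μ : (S₀ ⧸ Q) ⊗[k] (S₀ ⧸ P) →ₐ[k] S₀ ⧸ R :=
    Algebra.TensorProduct.lift (Ideal.Quotient.factorₐ k hQR) (Ideal.Quotient.factorₐ k hPR)
      fun _ _ => Commute.all _ _
  let g : σ → (S₀ ⧸ Q) ⊗[k] (S₀ ⧸ P) := fun i =>
    Ideal.Quotient.mk Q (gen i) ⊗ₜ[k] 1 - 1 ⊗ₜ[k] Ideal.Quotient.mk P (gen i)
  have hμ : Function.Surjective μ := fun y => by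
    obtain ⟨x, rfl⟩ := Ideal.Quotient.mk_surjective y
    refine ⟨Ideal.Quotient.mk Q x ⊗ₜ[k] 1, ?_⟩
    simp [μ]
  haveI : Algebra.FiniteType k ((S₀ ⧸ Q) ⊗[k] (S₀ ⧸ P)) :=
    Algebra.FiniteType.trans (S := S₀ ⧸ Q) inferInstance inferInstance
  rw [hr, hs]
  refine le_trans (le_of_eq (Nat.cast_add r s).symm) ?_
  refine le_dim_of_surjective k μ hμ (fun M hM => ringKrullDim_quotient_minimal k hr hs M hM) g
    (fun i => ?_) fun q hqP hq hqμ t ht => ?_
  · simp [μ, g]
  · let φ : S₀ →ₐ[k] ((S₀ ⧸ Q) ⊗[k] (S₀ ⧸ P)) ⧸ q :=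
      (Ideal.Quotient.mkₐ k q).comp
        (Algebra.TensorProduct.includeLeft.comp (Ideal.Quotient.mkₐ k Q))
    let ψ : S₀ →ₐ[k] ((S₀ ⧸ Q) ⊗[k] (S₀ ⧸ P)) ⧸ q :=
      (Ideal.Quotient.mkₐ k q).comp
        (Algebra.TensorProduct.includeRight.comp (Ideal.Quotient.mkₐ k P))
    have hφψ : φ = ψ := AlgHom.ext_of_adjoin_eq_top hgen (by
      rintro _ ⟨i, rfl⟩
      exact Ideal.Quotient.eq.2 (hq i))
    have hker : RingHom.ker φ = R := by
      haveI : (RingHom.ker φ).IsPrime := RingHom.ker_isPrime φ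
      have h1 : RingHom.ker φ ≤ R := fun x hx => by
        have h : Ideal.Quotient.mk Q x ⊗ₜ[k] (1 : S₀ ⧸ P) ∈ q :=
          Ideal.Quotient.eq_zero_iff_mem.1 hx
        have := hqμ _ h
        simpa [μ, Ideal.Quotient.eq_zero_iff_mem] using this
      refine le_antisymm h1 (hR.2 ⟨inferInstance, sup_le (fun x hx => ?_) fun x hx => ?_⟩ h1)
      · rw [RingHom.mem_ker, hφψ]
        simp [ψ, Ideal.Quotient.eq_zero_iff_mem.2 hx]
      · rw [RingHom.mem_ker]
        simp [φ, Ideal.Quotient.eq_zero_iff_mem.2 hx]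
    have hsur : ∀ t : (S₀ ⧸ Q) ⊗[k] (S₀ ⧸ P), ∃ x : S₀, Ideal.Quotient.mk q t = φ x := fun t => by
      induction t using TensorProduct.induction_on with
      | zero => exact ⟨0, by simp⟩
      | add a b ha hb =>
        obtain ⟨x, hx⟩ := ha
        obtain ⟨y, hy⟩ := hb
        exact ⟨x + y, by rw [map_add, hx, hy, map_add]⟩
      | tmul a b =>
        obtain ⟨x, rfl⟩ := Ideal.Quotient.mk_surjective a
        obtain ⟨y, rfl⟩ := Ideal.Quotient.mk_surjective b
        refine ⟨x * y, ?_⟩
        have h2 : φ y = ψ y := by rw [hφψ]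
        rw [map_mul, h2]
        simp [φ, ψ, ← map_mul, Algebra.TensorProduct.tmul_mul_tmul]
    obtain ⟨x, hx⟩ := hsur t
    have hsub : t - Ideal.Quotient.mk Q x ⊗ₜ[k] (1 : S₀ ⧸ P) ∈ q := Ideal.Quotient.eq.1 hx
    have h3 := hqμ _ hsub
    rw [map_sub, ht, zero_sub, neg_eq_zero] at h3
    have hxR : x ∈ R := by simpa [μ, Ideal.Quotient.eq_zero_iff_mem] using h3
    rw [← Ideal.Quotient.eq_zero_iff_mem, hx]
    exact RingHom.mem_ker.1 (hker.ge hxR)

/-- The intersection inequality in affine space. -/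
theorem le_dim_add_card {σ : Type u} [Finite σ] (P Q R : Ideal (MvPolynomial σ k)) [P.IsPrime] [Q.IsPrime]
    (hR : R ∈ (P ⊔ Q).minimalPrimes) :
    ringKrullDim (MvPolynomial σ k ⧸ P) + ringKrullDim (MvPolynomial σ k ⧸ Q) ≤
      ringKrullDim (MvPolynomial σ k ⧸ R) + (Nat.card σ : WithBot ℕ∞) :=
  le_dim_add_card_of_gens k MvPolynomial.X MvPolynomial.adjoin_range_X P Q R hR

/-- The intersection inequality in affine space, finitely many variables. -/
theorem le_dim_add_card_fin {m : ℕ} (P Q R : Ideal (MvPolynomial (Fin m) k)) [P.IsPrime] [Q.IsPrime]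
    (hR : R ∈ (P ⊔ Q).minimalPrimes) :
    ringKrullDim (MvPolynomial (Fin m) k ⧸ P) + ringKrullDim (MvPolynomial (Fin m) k ⧸ Q) ≤
      ringKrullDim (MvPolynomial (Fin m) k ⧸ R) + (Nat.card (Fin m) : WithBot ℕ∞) :=
  le_dim_add_card_of_gens k MvPolynomial.X MvPolynomial.adjoin_range_X P Q R hR

end Groth.Agent.InterDimLib
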